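import Groth.Agent.Lib.FibDense50.Const
import Groth.Agent.Lib.EtSite.Pull
import Groth.Agent.S0127
import Groth.Agent.S0137
import Groth.Prelude.Def_EGA4b
import Mathlib.RingTheory.IntegralClosure.IntegralRestrict

/-!
# Embedding a sheaf which becomes constant on a finite cover
-/

set_option autoImplicit false
set_option backward.isDefEq.respectTransparency false
set_option linter.style.haveILetI false

universe u

open CategoryTheory CategoryTheory.Limits AlgebraicGeometry Opposite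

noncomputable section

namespace Groth.Agent.Lib.ConstrEmb50.Main

open Groth.Agent.Lib.EtSite Groth.Agent.Lib.EtSite.Basic Groth.Agent.Lib.EtGerm.Basic
open Groth.Agent.Lib.LCStrict50.Const

/-- The stalk of a map which becomes a split monomorphism on pulling back is injective. -/
theorem stalk_injective {W X : Scheme.{u}} (a : W ⟶ X) {F G : EtCoh.Ab X} (φ : F ⟶ G)
    {H : EtCoh.Ab W} (ψ : (EtCoh.pull a).obj G ⟶ H) [IsIso ((EtCoh.pull a).map φ ≫ ψ)]
    {Ω : Type u} [Field Ω] [IsSepClosed Ω] (ξ : Spec (CommRingCat.of Ω) ⟶ W) :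
    Function.Injective ((EtCoh.stalk (ξ ≫ a)).map φ) := by
  haveI : IsSplitMono ((EtCoh.pull a).map φ) :=
    IsSplitMono.mk' ⟨ψ ≫ inv ((EtCoh.pull a).map φ ≫ ψ), by rw [← Category.assoc, IsIso.hom_inv_id]⟩
  haveI : IsSplitMono ((EtCoh.stalk ξ).map ((EtCoh.pull a).map φ)) :=
    IsSplitMono.mk' ⟨(EtCoh.stalk ξ).map (retraction ((EtCoh.pull a).map φ)), by
      rw [← Functor.map_comp, IsSplitMono.id, CategoryTheory.Functor.map_id]⟩
  haveI : Mono ((EtCoh.stalk (ξ ≫ a)).map φ) := by
    haveI : Mono ((EtCoh.pull a ⋙ EtCoh.stalk ξ).map φ) :=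
      inferInstanceAs (Mono ((EtCoh.stalk ξ).map ((EtCoh.pull a).map φ)))
    rw [← NatIso.naturality_1 (Pull.stalkPull a ξ) φ]
    infer_instance
  exact (AddCommGrpCat.mono_iff_injective _).1 inferInstance

theorem killed_of_iso {X : Scheme.{u}} {F G : EtCoh.Ab X} (e : F ≅ G) {m : ℕ} (h : EtCoh.KilledBy m F) :
    EtCoh.KilledBy m G := fun V s => by
  have := congrArg (e.hom.hom.app (op V)) (h V (e.inv.hom.app (op V) s))
  rw [map_nsmul, map_zero, ← ConcreteCategory.comp_apply, ← NatTrans.comp_app, ← ObjectProperty.FullSubcategory.comp_hom,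
    e.inv_hom_id] at this
  exact this

theorem killed_pull {W X : Scheme.{u}} (a : W ⟶ X) {F : EtCoh.Ab X} {m : ℕ} (h : EtCoh.KilledBy m F) :
    EtCoh.KilledBy m ((EtCoh.pull a).obj F) := by
  have hid : m • 𝟙 F = 0 := by
    apply Sheaf.hom_ext
    ext V s
    exact h V.unop s
  have h' : m • 𝟙 ((EtCoh.pull a).obj F) = 0 := by
    haveI : (EtCoh.pull a).Additive := (EtCoh.pullPushAdj a).left_adjoint_additive
    rw [← (EtCoh.pull a).map_id F, ← (EtCoh.pull a).map_nsmul, hid, Functor.map_zero]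
  intro V s
  exact congrArg (fun φ : (EtCoh.pull a).obj F ⟶ (EtCoh.pull a).obj F => φ.hom.app (op V) s) h'

theorem killed_value {X : Scheme.{u}} [Nonempty X] (M : AddCommGrpCat.{u + 1}) {m : ℕ}
    (h : EtCoh.KilledBy m (cst X M)) (x : M) : m • x = 0 := by
  let z : X := Classical.arbitrary X
  refine eq_zero_of_germ_csec M (Push.algPoint X z) (EtCoh.top X)
    (mkFiber _ _ (Push.algPoint X z) (Category.comp_id _)) _ ?_
  rw [map_nsmul (csec M (EtCoh.top X)) m x, h, map_zero]

/-- The support of a direct image from a closed subscheme lies in the subscheme. -/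
theorem supp_push_subset {Z X : Scheme.{u}} (i : Z ⟶ X) [IsClosedImmersion i] (G : EtCoh.Ab Z) :
    EtPBC.supp ((EtCoh.push i).obj G) ⊆ Set.range i.base := by
  rintro x ⟨Ω, _, _, ξ, hξ, hne⟩
  by_contra hx
  refine hne (@AddCommGrpCat.isZero_of_subsingleton _ (subsingleton_of_forall_eq 0 fun y => ?_))
  obtain ⟨V, p, s, rfl⟩ := exists_germ ((EtCoh.push i).obj G) y
  let O : V.left.Opens := ⟨V.hom.base ⁻¹' (Set.range i.base)ᶜ,
    i.isClosedEmbedding.isClosed_range.isOpen_compl.preimage V.hom.continuous⟩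
  let V' : X.Etale := Scheme.Etale.mk (O.ι ≫ V.hom)
  let g : V' ⟶ V := MorphismProperty.Over.homMk O.ι rfl
  have hp : fiberPt p ∈ O := by
    show V.hom.base (fiberPt p) ∉ Set.range i.base
    have h1 : V.hom.base (fiberPt p) = ξ.base default :=
      congrArg (fun q => q.base default) (fiberHom_comp p)
    rw [h1, Set.mem_singleton_iff.1 (hξ ▸ Set.mem_range_self default : ξ.base default ∈ ({x} : Set X))]
    exact hx
  obtain ⟨q, hq, -⟩ := Fiber.exists_fiber_map ξ g p ⟨fiberPt p, hp⟩ rfl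
  subst hq
  rw [← germ_map]
  haveI : IsEmpty ((EtCoh.bc i).obj V').left := ⟨fun w => by
    have h2 := congrArg (fun q => q.base w) (pullback.condition (f := V'.hom) (g := i))
    exact ((pullback.fst V'.hom i).base w : O).2 ⟨(pullback.snd V'.hom i).base w, h2.symm⟩⟩
  refine Eq.trans (congrArg _ ?_) (map_zero _)
  exact Stalk.sections_ext (A := AddCommGrpCat.{u + 1}) G _ _
    (fun w => isEmptyElim (α := ((EtCoh.bc i).obj V').left) w)

/-- A sheaf which is constant on a finite normal cover over a dense open subscheme with finite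
complement embeds in the direct image of a constant sheaf and a finite skyscraper. -/
theorem main {U : Scheme.{u}} [IsLocallyNoetherian U] (F : EtCoh.Ab U) (hF : EtPBC.IsConstructible F)
    (m : ℕ) (hmF : EtCoh.KilledBy m F) (V : U.Opens) (hV : Nonempty ↥(↑V : Scheme.{u}))
    (hfin : ((V : Set U)ᶜ).Finite)
    (Un : Scheme.{u}) [IsIntegral Un] (hnorm : ∀ y : ↥Un, IsIntegrallyClosed ↑(Un.presheaf.stalk y))
    (π : Un ⟶ U) [IsFinite π] [Surjective π] (M₀ : Type) [AddCommGroup M₀] [Finite M₀]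
    (hconst : Nonempty ((EtCoh.pull (π ⁻¹ᵁ V).ι).obj ((EtCoh.pull π).obj F) ≅
      EtCoh.const (↑(π ⁻¹ᵁ V) : Scheme.{u}) M₀)) :
    ∃ (M : Type) (_ : AddCommGroup M) (_ : Finite M), (∀ x : M, m • x = 0) ∧
      ∃ (Ff : EtCoh.Ab U), EtPBC.IsConstructible Ff ∧ (EtPBC.supp Ff).Finite ∧
        ∃ ι : F ⟶ (EtCoh.push π).obj (EtCoh.const Un M) ⊞ Ff, Mono ι := by
  obtain ⟨c⟩ := hconst
  haveI : IsLocallyNoetherian Un := LocallyOfFiniteType.isLocallyNoetherian π
  let j := (π ⁻¹ᵁ V).ι
  obtain ⟨v⟩ := hV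
  obtain ⟨y₀, hy₀⟩ := π.surjective v.1
  have hmem : y₀ ∈ π ⁻¹ᵁ V := by show π.base y₀ ∈ V; rw [hy₀]; exact v.2
  haveI : Nonempty ↥(↑(π ⁻¹ᵁ V) : Scheme.{u}) := ⟨⟨y₀, hmem⟩⟩
  have hd : DenseRange j.base := by
    change Dense (Set.range j.base)
    rw [Scheme.Opens.range_ι]
    exact (π ⁻¹ᵁ V).isOpen.dense ⟨y₀, hmem⟩
  let M := AddCommGrpCat.of (ULift.{u + 1} M₀)
  haveI hu : IsIso ((EtCoh.pullPushAdj j).unit.app (cst Un M)) :=
    FibDense50.Const.isIso_unit M j (fun y => ⟨inferInstance, hnorm y⟩) hd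
  let c' : (EtCoh.pull j).obj ((EtCoh.pull π).obj F) ≅ (EtCoh.pull j).obj (cst Un M) :=
    c ≪≫ Gen50.Const.iso j M
  let φl : (EtCoh.pull π).obj F ⟶ cst Un M :=
    (EtCoh.pullPushAdj j).homEquiv _ _ c'.hom ≫ inv ((EtCoh.pullPushAdj j).unit.app (cst Un M))
  have hφl : (EtCoh.pull j).map φl = c'.hom := by
    have h : φl ≫ (EtCoh.pullPushAdj j).unit.app (cst Un M) = (EtCoh.pullPushAdj j).homEquiv _ _ c'.hom := by
      simp [φl]
    apply ((EtCoh.pullPushAdj j).homEquiv _ _).injective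
    rw [← h, Adjunction.homEquiv_unit]
    exact ((EtCoh.pullPushAdj j).unit.naturality φl).symm
  let φ : F ⟶ (EtCoh.push π).obj (cst Un M) := (EtCoh.pullPushAdj π).homEquiv _ _ φl
  let I := Scheme.IdealSheafData.vanishingIdeal (X := U) ⟨(V : Set U)ᶜ, V.isOpen.isClosed_compl⟩
  let i := I.subschemeι
  have hi : Set.range i.base = (V : Set U)ᶜ := by rw [I.range_subschemeι]; rfl
  haveI : LocallyOfFinitePresentation i := inferInstance
  haveI : EtCoh.BCCont i := inferInstance
  refine ⟨M₀, inferInstance, inferInstance, fun x => ?_, (EtCoh.push i).obj ((EtCoh.pull i).obj F),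
    S0137.result i _ (S0127.result i F hF), hfin.subset (hi ▸ supp_push_subset i _),
    biprod.lift φ ((EtCoh.pullPushAdj i).unit.app F), ?_⟩
  · have h := killed_value M (killed_of_iso c (killed_pull j (killed_pull π hmF))) ⟨x⟩
    exact congrArg ULift.down h
  refine Stalk.mono_of_stalks _ fun x => ?_
  by_cases hx : x ∈ V
  · obtain ⟨y, hy⟩ := π.surjective x
    have hyV : y ∈ π ⁻¹ᵁ V := by show π.base y ∈ V; rw [hy]; exact hx
    let ξ := Push.algPoint (↑(π ⁻¹ᵁ V) : Scheme.{u}) ⟨y, hyV⟩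
    refine ⟨_, inferInstance, inferInstance, (ξ ≫ j) ≫ π, ?_, fun a b hab => ?_⟩
    · show π.base (j.base (ξ.base default)) = x
      rw [Push.algPoint_apply]; exact hy
    · have hb := congrArg ((EtCoh.stalk ((ξ ≫ j) ≫ π)).map (biprod.fst :
        (EtCoh.push π).obj (cst Un M) ⊞ (EtCoh.push i).obj ((EtCoh.pull i).obj F) ⟶ _)) hab
      rw [← ConcreteCategory.comp_apply, ← ConcreteCategory.comp_apply] at hb
      erw [← Functor.map_comp, biprod.lift_fst] at hb
      haveI : IsIso ((EtCoh.pull (j ≫ π)).map φ ≫ ((EtCore.pullComp j π).hom.app _ ≫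
          (EtCoh.pull j).map ((EtCoh.pullPushAdj π).counit.app (cst Un M)))) := by
        have hc : (EtCoh.pull π).map φ ≫ (EtCoh.pullPushAdj π).counit.app (cst Un M) = φl :=
          ((EtCoh.pullPushAdj π).homEquiv_counit F (cst Un M) φ).symm.trans (Equiv.symm_apply_apply _ _)
        rw [← Category.assoc, (EtCore.pullComp j π).hom.naturality, Category.assoc, Functor.comp_map,
          ← Functor.map_comp, hc, hφl]
        infer_instance
      have key := stalk_injective (j ≫ π) φ ((EtCore.pullComp j π).hom.app _ ≫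
          (EtCoh.pull j).map ((EtCoh.pullPushAdj π).counit.app (cst Un M))) ξ
      revert hb a b
      rw [Category.assoc]
      intro a b _ hb
      exact key hb
  · obtain ⟨z, rfl⟩ : x ∈ Set.range i.base := by rw [hi]; exact hx
    let ξ := Push.algPoint _ z
    refine ⟨_, inferInstance, inferInstance, ξ ≫ i, congrArg i.base (Push.algPoint_apply _ z default), fun a b hab => ?_⟩
    have hb := congrArg ((EtCoh.stalk (ξ ≫ i)).map (biprod.snd :
      (EtCoh.push π).obj (cst Un M) ⊞ (EtCoh.push i).obj ((EtCoh.pull i).obj F) ⟶ _)) hab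
    rw [← ConcreteCategory.comp_apply, ← ConcreteCategory.comp_apply] at hb
    erw [← Functor.map_comp, biprod.lift_snd] at hb
    haveI : IsIso ((EtCoh.pull i).map ((EtCoh.pullPushAdj i).unit.app F) ≫
        (EtCoh.pullPushAdj i).counit.app ((EtCoh.pull i).obj F)) := by
      have ht : (EtCoh.pull i).map ((EtCoh.pullPushAdj i).unit.app F) ≫
          (EtCoh.pullPushAdj i).counit.app ((EtCoh.pull i).obj F) = 𝟙 _ :=
        (EtCoh.pullPushAdj i).left_triangle_components F
      rw [ht]; infer_instance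
    exact stalk_injective i _ ((EtCoh.pullPushAdj i).counit.app ((EtCoh.pull i).obj F)) ξ hb

section Ring

variable (k : Type u) [Field k] [CharZero k] (R₀ : Type u) [CommRing R₀] [IsDomain R₀] [Algebra k R₀]
  [IsIntegrallyClosed R₀] [IsNoetherianRing R₀]
  (K : Type u) [Field K] [Algebra R₀ K] [Algebra (FractionRing R₀) K]
  [IsScalarTower R₀ (FractionRing R₀) K] [FiniteDimensional (FractionRing R₀) K]

include k in
theorem isNoetherianRing_closure : IsNoetherianRing (integralClosure R₀ K) := by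
  haveI : CharZero (FractionRing R₀) :=
    charZero_of_injective_ringHom ((algebraMap R₀ (FractionRing R₀)).comp (algebraMap k R₀)).injective
  haveI : Algebra.IsSeparable (FractionRing R₀) K := inferInstance
  exact IsIntegralClosure.isNoetherianRing R₀ (FractionRing R₀) K (integralClosure R₀ K)

end Ring

/-- A proper closed subset of the nonclosed points of a two-dimensional domain is finite. -/
theorem finite_compl {R₀ B : Type u} [CommRing R₀] [CommRing B] [IsDomain B] [IsNoetherianRing B]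
    [Algebra R₀ B] [Algebra.IsIntegral R₀ B] (hdim : ringKrullDim R₀ = 2)
    (U : (Spec (CommRingCat.of B)).Opens)
    (hU : ∀ x : ↥(Spec (CommRingCat.of B)), x ∈ U → ¬ IsClosed ({x} : Set ↥(Spec (CommRingCat.of B))))
    (V : (↑U : Scheme.{u}).Opens) (hV : Nonempty ↥(↑V : Scheme.{u})) :
    ((V : Set ↥(↑U : Scheme.{u}))ᶜ).Finite := by
  haveI : TopologicalSpace.NoetherianSpace ↥(↑U : Scheme.{u}) :=
    inferInstanceAs (TopologicalSpace.NoetherianSpace ↥(U : Set ↥(Spec (CommRingCat.of B))))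
  obtain ⟨S, hSf, hS, hS', hVS⟩ := TopologicalSpace.NoetherianSpace.exists_finite_set_isClosed_irreducible
    (V.isOpen.isClosed_compl)
  rw [hVS]
  refine hSf.sUnion fun C hC => ?_
  have hCc := hS C hC
  have hCi := hS' C hC
  obtain ⟨z, hz⟩ := QuasiSober.sober hCi hCc
  refine (Set.finite_singleton z).subset fun w hw => ?_
  have hzw : z ⤳ w := hz.specializes hw
  by_contra hne
  have hne' : (z.1 : PrimeSpectrum B) ≠ w.1 := fun e => hne (Subtype.ext e).symm
  have hlt : (z.1 : PrimeSpectrum B).asIdeal < (w.1 : PrimeSpectrum B).asIdeal :=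
    lt_of_le_of_ne ((PrimeSpectrum.le_iff_specializes _ _).2 (hzw.map continuous_subtype_val))
      fun e => hne' (PrimeSpectrum.ext e)
  obtain ⟨v⟩ := hV
  have hz0 : (⊥ : Ideal B) < (z.1 : PrimeSpectrum B).asIdeal := by
    refine bot_lt_iff_ne_bot.2 fun e => ?_
    have hzv : z ⤳ v.1 := (subtype_specializes_iff _ _).2
      ((PrimeSpectrum.le_iff_specializes _ _).1 (show (z.1 : PrimeSpectrum B).asIdeal ≤ _ by rw [e]; exact bot_le))
    have hzc : z ∈ (V : Set ↥(↑U : Scheme.{u}))ᶜ := hVS ▸ Set.mem_sUnion.2 ⟨C, hC, hz.mem⟩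
    exact hzv.mem_closed V.isOpen.isClosed_compl hzc v.2
  obtain ⟨P, hP, hwP⟩ := Ideal.exists_le_maximal _ (w.1 : PrimeSpectrum B).isPrime.ne_top
  have hlt2 : (w.1 : PrimeSpectrum B).asIdeal < P := lt_of_le_of_ne hwP fun e =>
    hU w.1 w.2 ((PrimeSpectrum.isClosed_singleton_iff_isMaximal _).2 (e ▸ hP))
  let p : Fin 4 → PrimeSpectrum R₀ :=
    ![⟨(⊥ : Ideal B).comap (algebraMap R₀ B), inferInstance⟩,
      ⟨(z.1 : PrimeSpectrum B).asIdeal.comap (algebraMap R₀ B), inferInstance⟩,
      ⟨(w.1 : PrimeSpectrum B).asIdeal.comap (algebraMap R₀ B), inferInstance⟩,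
      ⟨P.comap (algebraMap R₀ B), inferInstance⟩]
  have hp : ∀ i : Fin 3, p i.castSucc < p i.succ := by
    intro i
    fin_cases i
    · exact Ideal.IsIntegral.comap_lt_comap hz0
    · exact Ideal.IsIntegral.comap_lt_comap hlt
    · exact Ideal.IsIntegral.comap_lt_comap hlt2
  have h3 := Order.LTSeries.length_le_krullDim (⟨3, p, hp⟩ : LTSeries (PrimeSpectrum R₀))
  change ((3 : ℕ) : WithBot ℕ∞) ≤ ringKrullDim R₀ at h3
  rw [hdim] at h3
  have : (3 : ℕ) ≤ 2 := by exact_mod_cast h3
  omega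

end Groth.Agent.Lib.ConstrEmb50.Main
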